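import Groth.Agent.Pic13.H969.StalkFree
import Groth.Agent.Pic13.H138.BddPic
import Groth.Agent.S1455
import Groth.Agent.Fdesc.FlatBC
import Groth.Agent.Models2.FlatIso
import Groth.Agent.FormalA.PullbackQC
import Groth.Agent.CohqA.FinLocal
import Mathlib.AlgebraicGeometry.Morphisms.FiniteType

/-!
# A bounded family of invertible modules is parametrised by an invertible module

* `exists_lift_of_mem` : a `k`-point of `T` lying in a closed subscheme factors through it.
* `locus` : the open set of `Y` where a module has a generator.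
* `bridge` : `Pic13.IsBounded k X P` implies `BddPic k X {mk L | P L, L invertible}`.
-/

set_option autoImplicit false
universe u
open CategoryTheory CategoryTheory.Limits AlgebraicGeometry TopologicalSpace

namespace Groth.Agent.Pic13.H969.Bridge

open Groth.Agent.Fdesc.LocGen Groth.Agent.Grpsch.PicGrp Groth.Agent.Pic13.H138.Slice
  Groth.Agent.Pic13.H138.BddPic

section Points

variable (k : Type u) [Field k]

local notation "Sk" => Spec (CommRingCat.of k)

theorem eq_closedPoint (p : Sk) : p = IsLocalRing.closedPoint k :=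
  Subsingleton.elim (α := PrimeSpectrum k) _ _

variable {k}

/-- A `k`-point lying in a closed subscheme factors through it. -/
theorem exists_lift_of_mem {Z T : Scheme.{u}} (i : Z ⟶ T) [IsClosedImmersion i] (t : Sk ⟶ T)
    (h : t (IsLocalRing.closedPoint k) ∈ Set.range i) : ∃ t' : Sk ⟶ Z, t' ≫ i = t := by
  have hs : Surjective (pullback.fst t i) := by
    refine ⟨fun p => ?_⟩
    have h1 : p ∈ Set.range (pullback.fst t i) := by
      rw [Scheme.Pullback.range_fst]
      rw [eq_closedPoint k p]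
      exact h
    exact h1
  have : IsReduced Sk := inferInstance
  have : IsIso (pullback.fst t i) := isIso_of_isClosedImmersion_of_surjective _
  refine ⟨inv (pullback.fst t i) ≫ pullback.snd t i, ?_⟩
  rw [Category.assoc, ← pullback.condition, IsIso.inv_hom_id_assoc]

/-- A `k`-point lying in an open subscheme factors through it. -/
theorem exists_lift_of_mem_open {Z T : Scheme.{u}} (i : Z ⟶ T) [IsOpenImmersion i] (t : Sk ⟶ T)
    (h : t (IsLocalRing.closedPoint k) ∈ Set.range i) : ∃ t' : Sk ⟶ Z, t' ≫ i = t := by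
  refine ⟨IsOpenImmersion.lift i t ?_, IsOpenImmersion.lift_fac _ _ _⟩
  rintro _ ⟨p, rfl⟩
  rw [eq_closedPoint k p]
  exact h

/-- A section `Spec k ⟶ T` of a `k`-scheme, as `Spec` of the residue field. -/
theorem exists_residue {T : Scheme.{u}} (q : T ⟶ Sk) (t : Sk ⟶ T) (ht : t ≫ q = 𝟙 _) :
    ∃ ψ : Sk ⟶ Spec (T.residueField (t (IsLocalRing.closedPoint k))),
      IsIso ψ ∧ ψ ≫ T.fromSpecResidueField _ = t := by
  let s : T := t (IsLocalRing.closedPoint k)
  let ψ : T.residueField s ⟶ CommRingCat.of k :=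
    Scheme.descResidueField (Scheme.stalkClosedPointTo t)
  have hψ : Spec.map ψ ≫ T.fromSpecResidueField s = t :=
    Scheme.descResidueField_stalkClosedPointTo_fromSpecResidueField k T t
  refine ⟨Spec.map ψ, ?_, hψ⟩
  have h1 : Spec.map ψ ≫ (T.fromSpecResidueField s ≫ q) = 𝟙 _ := by
    rw [← Category.assoc, hψ, ht]
  obtain ⟨φ, hφ⟩ : ∃ φ : CommRingCat.of k ⟶ T.residueField s,
      Spec.map φ = T.fromSpecResidueField s ≫ q := ⟨_, Spec.map_preimage _⟩
  rw [← hφ, ← Spec.map_comp, ← Spec.map_id] at h1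
  have h2 : φ ≫ ψ = 𝟙 _ := Spec.map_injective h1
  have h3 : Function.Bijective ψ.hom := by
    refine ⟨ψ.hom.injective, fun a => ⟨φ.hom a, ?_⟩⟩
    have := congrArg (fun g => g.hom a) h2
    exact this
  have : IsIso ψ := (ConcreteCategory.isIso_iff_bijective ψ).mpr h3
  infer_instance

end Points

section Locus

variable {Y S : Scheme.{u}} (G : Y.Modules)

/-- The open locus where `G` has a generator. -/
def locus : Set Y := {y | ∃ (V : Y.Opens) (e : Γ(G, V)), y ∈ V ∧ IsGen e}

theorem isOpen_locus : IsOpen (locus G) := by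
  rw [isOpen_iff_forall_mem_open]
  rintro y ⟨V, e, hy, he⟩
  exact ⟨V, fun z hz => ⟨V, e, hz, he⟩, V.2, hy⟩

variable {G}

theorem isInvertible_pullback_of_range {Y' : Scheme.{u}} (g : Y' ⟶ Y)
    (h : ∀ y : Y', g y ∈ locus G) : PicF.IsInvertible ((Scheme.Modules.pullback g).obj G) := by
  rw [isInvertible_iff]
  intro y
  obtain ⟨V, e, hy, he⟩ := h y
  exact ⟨g ⁻¹ᵁ V, pullSec g e, hy, he.pullSec g⟩

variable (f : Y ⟶ S) (G)

/-- The points of `S` over which `G` is everywhere locally generated by one element. -/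
def base (hf : IsClosedMap f) : S.Opens :=
  ⟨(f '' (locus G)ᶜ)ᶜ, (hf _ (isOpen_locus G).isClosed_compl).isOpen_compl⟩

theorem mem_base_iff (hf : IsClosedMap f) (s : S) :
    s ∈ base G f hf ↔ ∀ y : Y, f y = s → y ∈ locus G := by
  change s ∈ (f '' (locus G)ᶜ)ᶜ ↔ _
  rw [Set.mem_compl_iff, Set.mem_image]
  push Not
  constructor
  · intro h y hy
    by_contra hc
    exact h y hc hy
  · intro h y hy hs
    exact hy (h y hs)

end Locus

section Family

variable (k : Type u) [Field k] (X : Scheme.{u}) [X.Over (Spec (CommRingCat.of k))]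

local notation "Sk" => Spec (CommRingCat.of k)

/-- The slice is a fibre of the projection. -/
theorem isPullback_slice {T : Scheme.{u}} (q : T ⟶ Sk) (t : Sk ⟶ T) (ht : t ≫ q = 𝟙 _) :
    IsPullback (Pic13.sliceAt k X q t ht) (X ↘ Sk) (pullback.snd _ _) t := by
  refine IsPullback.of_right (h₁₂ := pullback.fst (X ↘ Sk) q) (v₁₃ := X ↘ Sk) (h₂₂ := q) ?_
    (sliceAt_snd k X q t ht) ?_
  · rw [sliceAt_fst, ht]
    exact IsPullback.of_horiz_isIso ⟨by simp⟩
  · exact IsPullback.of_hasPullback _ _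

/-- Base change of the fibre in the parameter. -/
noncomputable def fibreModBcT {T T' : Scheme.{u}} (q : T ⟶ Sk) (q' : T' ⟶ Sk) (h : T' ⟶ T)
    (hh : h ≫ q = q') (t : Sk ⟶ T') (ht : t ≫ q' = 𝟙 _) (M : (Pic13.prodK k X q).Modules)
    (t₀ : Sk ⟶ T) (ht₀ : t₀ ≫ q = 𝟙 _) (h₀ : t ≫ h = t₀) :
    Pic13.fibreMod k X q' t ht ((Scheme.Modules.pullback (bcT k X q q' h hh)).obj M) ≅
      Pic13.fibreMod k X q t₀ ht₀ M :=
  (Scheme.Modules.pullbackComp _ _).app M ≪≫
    (Scheme.Modules.pullbackCongr (by subst h₀; exact sliceAt_bcT k X q q' h hh t ht)).app M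

/-- If the fibre of a flat coherent family at a `k`-point is invertible, the point lies in `base`. -/
theorem mem_base_of_fibre {T : Scheme.{u}} (q : T ⟶ Sk) [IsLocallyNoetherian (Pic13.prodK k X q)]
    (G : (Pic13.prodK k X q).Modules) (hG : Coh.IsCoh G)
    (hflat : FlatMod.IsFlatOver (pullback.snd (X ↘ Sk) q) G)
    (hf : IsClosedMap (pullback.snd (X ↘ Sk) q)) (t : Sk ⟶ T) (ht : t ≫ q = 𝟙 _)
    (hinv : PicF.IsInvertible (Pic13.fibreMod k X q t ht G)) :
    t (IsLocalRing.closedPoint k) ∈ base G (pullback.snd (X ↘ Sk) q) hf := by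
  rw [mem_base_iff]
  intro y hy
  obtain ⟨ψ, hψ, hψt⟩ := exists_residue q t ht
  have H : IsPullback (Pic13.sliceAt k X q t ht) ((X ↘ Sk) ≫ ψ) (pullback.snd (X ↘ Sk) q)
      (T.fromSpecResidueField (t (IsLocalRing.closedPoint k))) :=
    IsPullback.of_iso (isPullback_slice k X q t ht) (Iso.refl _) (Iso.refl _) (asIso ψ)
      (Iso.refl _) (by simp) (by simp) (by simp) (by simp [hψt])
  obtain ⟨x, hx, -⟩ := Scheme.exists_preimage_of_isPullback (isPullback_slice k X q t ht) y
    (IsLocalRing.closedPoint k) hy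
  subst hx
  exact StalkFree.exists_isGen_of_fibre _ H G hG x (hflat _) hinv

/-- One stratum: a locally closed piece of the parameter scheme over which the family is flat. -/
theorem stratum [IsProper (X ↘ Sk)] {T T' : Scheme.{u}} (q : T ⟶ Sk) [LocallyOfFiniteType q]
    [QuasiCompact q] (F : (Pic13.prodK k X q).Modules) (hF : Coh.IsCoh F) (j : T' ⟶ T)
    [LocallyOfFiniteType j] [QuasiCompact j]
    (hfl : FlatMod.IsFlatOver (pullback.snd (pullback.snd (X ↘ Sk) q) j)
      ((Scheme.Modules.pullback (pullback.fst (pullback.snd (X ↘ Sk) q) j)).obj F)) :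
    BddPic k X {a | ∃ (L : X.Modules) (hL : PicF.IsInvertible L) (t : Sk ⟶ T')
      (ht : (t ≫ j) ≫ q = 𝟙 _), Nonempty (Pic13.fibreMod k X q (t ≫ j) ht F ≅ L) ∧
        a = mk L hL} := by
  let q' : T' ⟶ Sk := j ≫ q
  let b : Pic13.prodK k X q' ⟶ Pic13.prodK k X q := bcT k X q q' j rfl
  let G : (Pic13.prodK k X q').Modules := (Scheme.Modules.pullback b).obj F
  have hG : Coh.IsCoh G := FormalA.PullbackQC.isCoh_pullback b F hF
  have hNT' : IsLocallyNoetherian T' := LocallyOfFiniteType.isLocallyNoetherian q'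
  have hN' : IsLocallyNoetherian (Pic13.prodK k X q') :=
    LocallyOfFiniteType.isLocallyNoetherian (pullback.snd (X ↘ Sk) q')
  -- flatness
  have hpb : IsPullback b (pullback.snd (X ↘ Sk) q') (pullback.snd (X ↘ Sk) q) j :=
    isPullback_bcT k X q q' j rfl
  let e : Pic13.prodK k X q' ⟶ pullback (pullback.snd (X ↘ Sk) q) j :=
    pullback.lift b (pullback.snd (X ↘ Sk) q') hpb.w
  have he : IsPullback e (pullback.snd (X ↘ Sk) q') (pullback.snd (pullback.snd (X ↘ Sk) q) j)
      (𝟙 T') := by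
    refine IsPullback.of_right (h₁₂ := pullback.fst (pullback.snd (X ↘ Sk) q) j)
      (v₁₃ := pullback.snd (X ↘ Sk) q) (h₂₂ := j) ?_ (by rw [Category.comp_id]; exact pullback.lift_snd _ _ _)
      (IsPullback.of_hasPullback _ _)
    rw [Category.id_comp, pullback.lift_fst]
    exact hpb
  let eG : (Scheme.Modules.pullback e).obj
      ((Scheme.Modules.pullback (pullback.fst (pullback.snd (X ↘ Sk) q) j)).obj F) ≅ G :=
    (Scheme.Modules.pullbackComp _ _).app F ≪≫
      (Scheme.Modules.pullbackCongr (pullback.lift_fst _ _ _)).app F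
  have hflat : FlatMod.IsFlatOver (pullback.snd (X ↘ Sk) q') G :=
    Models2.FlatIso.isFlatOver_of_iso _ eG fun z =>
      Fdesc.FlatBC.isFlatOverAt_pullback he _ z (hfl _)
  have hclosed : IsClosedMap (pullback.snd (X ↘ Sk) q') :=
    (pullback.snd (X ↘ Sk) q').isClosedMap
  let V : T'.Opens := base G (pullback.snd (X ↘ Sk) q') hclosed
  let q'' : (V : Scheme.{u}) ⟶ Sk := V.ι ≫ q'
  let b' : Pic13.prodK k X q'' ⟶ Pic13.prodK k X q' := bcT k X q' q'' V.ι rfl
  let M : (Pic13.prodK k X q'').Modules := (Scheme.Modules.pullback b').obj G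
  have hM : PicF.IsInvertible M := by
    refine isInvertible_pullback_of_range b' fun y => ?_
    have h1 : (pullback.snd (X ↘ Sk) q') (b' y) ∈ V := by
      rw [← Scheme.Hom.comp_apply, bcT_snd, Scheme.Hom.comp_apply]
      exact ((pullback.snd (X ↘ Sk) q'') y).2
    exact (mem_base_iff G _ hclosed _).1 h1 _ rfl
  refine ⟨V, q'', inferInstance, inferInstance, mk M hM, ?_⟩
  rintro a ⟨L, hL, t, ht, ⟨eL⟩, rfl⟩
  have ht' : t ≫ q' = 𝟙 _ := by rw [← ht, Category.assoc]
  let e1 : Pic13.fibreMod k X q' t ht' G ≅ L :=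
    fibreModBcT k X q q' j rfl t ht' F (t ≫ j) ht rfl ≪≫ eL
  have hmem := mem_base_of_fibre k X q' G hG hflat hclosed t ht'
    (H138.AlgEquiv.isInvertible_of_iso e1.symm hL)
  obtain ⟨t', ht''⟩ := exists_lift_of_mem_open V.ι t (by
    rw [Scheme.Opens.range_ι]
    exact hmem)
  have h3 : t' ≫ q'' = 𝟙 _ := by
    rw [← ht', ← ht'', Category.assoc]
  refine ⟨t', h3, ?_⟩
  obtain ⟨h4, h5⟩ := fibCl_mk k X q'' t' h3 hM
  rw [h5]
  exact mk_congr (fibreModBcT k X q' q'' V.ι rfl t' h3 G t ht' ht'' ≪≫ e1)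

/-- Every point lies in a stratum of a filtration by closed subschemes. -/
theorem exists_stratum {T : Scheme.{u}} {n : ℕ} (I : Fin (n + 1) → T.IdealSheafData)
    (hlast : I (Fin.last n) = ⊤) (h0 : ((I 0).support : Set T) = Set.univ) (s : T) :
    ∃ i : Fin n, s ∈ (I i.castSucc).support ∧ s ∉ (I i.succ).support := by
  by_contra hc
  push Not at hc
  have h : ∀ i : Fin (n + 1), s ∈ (I i).support := fun i =>
    Fin.induction (motive := fun i => s ∈ (I i).support)
      (by
        have : s ∈ ((I 0).support : Set T) := by rw [h0]; trivial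
        exact this) (fun i hi => hc i hi) i
  have h1 := h (Fin.last n)
  rw [hlast, Scheme.IdealSheafData.support_top] at h1
  exact h1

/-- **The bridge.** A bounded family of invertible modules on a proper scheme is parametrised by an
invertible module. -/
theorem bridge [IsProper (X ↘ Sk)] (P : X.Modules → Prop) (hb : Pic13.IsBounded k X P) :
    BddPic k X {a | ∃ (L : X.Modules) (hL : PicF.IsInvertible L), P L ∧ a = mk L hL} := by
  obtain ⟨T, q, hlft, hqc, F, hF, hFP⟩ := hb
  have hNT : IsLocallyNoetherian T := LocallyOfFiniteType.isLocallyNoetherian q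
  have hcT : CompactSpace T := (quasiCompact_iff_compactSpace (f := q)).mp inferInstance
  have hNoeth : IsNoetherian T := {}
  have hqsT : QuasiSeparatedSpace T := inferInstance
  have hN : IsLocallyNoetherian (Pic13.prodK k X q) :=
    LocallyOfFiniteType.isLocallyNoetherian (pullback.snd (X ↘ Sk) q)
  have hlfp : LocallyOfFinitePresentation (X ↘ Sk) := inferInstance
  have hlfp' : LocallyOfFinitePresentation (pullback.snd (X ↘ Sk) q) := inferInstance
  have hfp : CohB1.IsFP F := StalkFree.isFP_of_isCoh hF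
  obtain ⟨n, I, -, hlast, h0, -, hfl⟩ := S1455.result (pullback.snd (X ↘ Sk) q) F hF.1 hfp
  refine (BddPic.iUnion (fun i : Fin n => {a : Pic X | ∃ (L : X.Modules)
    (hL : PicF.IsInvertible L)
    (t : Sk ⟶ ((I i.castSucc).subschemeι ⁻¹ᵁ (I i.succ).support.compl).toScheme)
    (ht : (t ≫ ((I i.castSucc).subschemeι ⁻¹ᵁ (I i.succ).support.compl).ι ≫
      (I i.castSucc).subschemeι) ≫ q = 𝟙 _),
      Nonempty (Pic13.fibreMod k X q (t ≫ _) ht F ≅ L) ∧ a = mk L hL})
    fun i => ?_).mono ?_
  · have hNi : IsLocallyNoetherian (I i.castSucc).subscheme :=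
      LocallyOfFiniteType.isLocallyNoetherian (I i.castSucc).subschemeι
    have hqci : QuasiCompact ((I i.castSucc).subschemeι ⁻¹ᵁ (I i.succ).support.compl).ι :=
      inferInstance
    exact stratum k X q F hF _ (hfl i)
  rintro a ⟨L, hL, hPL, rfl⟩
  obtain ⟨t, ht, ⟨e⟩⟩ := hFP L hPL
  obtain ⟨i, hi1, hi2⟩ := exists_stratum I hlast h0 (t (IsLocalRing.closedPoint k))
  obtain ⟨t₁, ht₁⟩ := exists_lift_of_mem (I i.castSucc).subschemeι t (by
    rw [Scheme.IdealSheafData.range_subschemeι]
    exact hi1)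
  obtain ⟨t₂, ht₂⟩ := exists_lift_of_mem_open
    ((I i.castSucc).subschemeι ⁻¹ᵁ (I i.succ).support.compl).ι t₁ (by
      rw [Scheme.Opens.range_ι]
      change (I i.castSucc).subschemeι (t₁ (IsLocalRing.closedPoint k)) ∉ (I i.succ).support
      rw [← Scheme.Hom.comp_apply, ht₁]
      exact hi2)
  have h3 : t₂ ≫ ((I i.castSucc).subschemeι ⁻¹ᵁ (I i.succ).support.compl).ι ≫
      (I i.castSucc).subschemeι = t := by rw [← Category.assoc, ht₂, ht₁]
  refine Set.mem_iUnion.2 ⟨i, L, hL, t₂, by rw [h3, ht], ⟨?_⟩, rfl⟩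
  exact eqToIso (by congr 1) ≪≫ e

end Family

end Groth.Agent.Pic13.H969.Bridge
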