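import Groth.Agent.Flat2E.FlatFree
import Mathlib.LinearAlgebra.TensorProduct.Quotient
import Mathlib.LinearAlgebra.Dimension.Constructions
import Mathlib.RingTheory.Ideal.Quotient.Operations

/-!
# Freeness over a local ring from freeness of the fibre, base change form
-/

set_option autoImplicit false

namespace Groth.Agent.Pic13.H969.AlgFree

open TensorProduct IsLocalRing

/-- If `A → B` is surjective with kernel `J A`, `M` is finitely presented over the local ring `A`, flat over
`R`, and `B ⊗_A M` is free, then `M` is free. -/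
theorem free_of_free_baseChange {R A B M : Type*} [CommRing R] [CommRing A] [IsLocalRing A]
    [CommRing B] [Algebra R A] [Algebra A B] [AddCommGroup M] [Module A M] [Module R M]
    [IsScalarTower R A M] [Module.FinitePresentation A M] [Module.Flat R M] (J : Ideal R)
    (hJ : J.map (algebraMap R A) ≤ maximalIdeal A)
    (hs : Function.Surjective (algebraMap A B))
    (hk : RingHom.ker (algebraMap A B) = J.map (algebraMap R A))
    (h : Module.Free B (B ⊗[A] M)) : Module.Free A M := by
  refine Flat2E.FlatFree.free_of_flat_of_flat_quotient J hJ ?_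
  set I : Ideal A := J.map (algebraMap R A) with hI
  let e : (A ⧸ I) ≃+* B :=
    (Ideal.quotEquivOfEq hk.symm).trans (RingHom.quotientKerEquivOfSurjective hs)
  have he : ∀ a : A, e (Ideal.Quotient.mk I a) = algebraMap A B a := fun a => rfl
  let eA : (A ⧸ I) ≃ₗ[A] B :=
    { e with
      map_smul' := fun a x => by
        obtain ⟨x, rfl⟩ := Ideal.Quotient.mk_surjective x
        change e (a • Ideal.Quotient.mk I x) = a • e (Ideal.Quotient.mk I x)
        rw [← Ideal.Quotient.mk_eq_mk, ← Submodule.Quotient.mk_smul]
        change e (Ideal.Quotient.mk I (a * x)) = a • e (Ideal.Quotient.mk I x)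
        rw [he, he, map_mul, Algebra.smul_def] }
  let ψ : (M ⧸ (I • (⊤ : Submodule A M))) ≃ₗ[A] B ⊗[A] M :=
    (TensorProduct.quotTensorEquivQuotSMul M I).symm.trans
      (TensorProduct.congr eA (LinearEquiv.refl A M))
  have hψ : ∀ (r : A ⧸ I) (m : M ⧸ (I • (⊤ : Submodule A M))), ψ (r • m) = e r • ψ m := by
    intro r m
    obtain ⟨a, rfl⟩ := Ideal.Quotient.mk_surjective r
    have h1 : (Ideal.Quotient.mk I a) • m = a • m := by
      obtain ⟨m, rfl⟩ := Submodule.Quotient.mk_surjective _ m
      rfl
    rw [h1, map_smul, he, algebraMap_smul]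
  have hfree : Module.Free (A ⧸ I) (M ⧸ (I • (⊤ : Submodule A M))) := by
    let b := Module.Free.chooseBasis B (B ⊗[A] M)
    let _ : Module (A ⧸ I) (B ⊗[A] M) := Module.compHom _ (e : (A ⧸ I) ≃+* B).toRingHom
    let ψ' : (M ⧸ (I • (⊤ : Submodule A M))) ≃ₗ[A ⧸ I] B ⊗[A] M :=
      { ψ with map_smul' := fun r m => hψ r m }
    have hb : Module.Free (A ⧸ I) (B ⊗[A] M) :=
      Module.Free.of_basis (b.mapCoeffs e.symm (fun r m => by
        change e (e.symm r) • m = r • m
        rw [RingEquiv.apply_symm_apply]))
    exact Module.Free.of_equiv ψ'.symm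
  exact inferInstance

end Groth.Agent.Pic13.H969.AlgFree
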