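import Groth.Agent.PerfB.Semi
import Groth.Agent.Ega3B.ChiFib
import Groth.Agent.Pic13.H138.Slice

/-!
# Cohomology of the members of a flat family, `h^i` bounded on a quasi-compact parameter scheme

* `betti_eq_finrank` : `PerfAux.betti f M (φ pt) i = dim_F H^i(X, g^* M)` for `X = Y ×_S Spec F`.
* `betti_slice` : the same for the fibre `Pic13.fibreMod` at a `k`-point.
* `exists_bound_finrank` : `h^i` of the fibres of a flat finitely presented family is bounded.
* `eulerChar_slice` : local constancy of the full Euler characteristic, `k`-point form.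
-/

set_option autoImplicit false
universe u
open CategoryTheory CategoryTheory.Limits AlgebraicGeometry TopologicalSpace

namespace Groth.Agent.Pic13.H969.BettiFam

/-- The Betti numbers of a fibre, computed after any field extension. -/
theorem betti_eq_finrank {Y S : Scheme.{u}} (f : Y ⟶ S) [QuasiCompact f] [QuasiSeparated f]
    (F : Type u) [Field F]
    (φ : Spec (CommRingCat.of F) ⟶ S) (X : Scheme.{u}) [X.Over (Spec (CommRingCat.of F))]
    (g : X ⟶ Y) (hpb : IsPullback g (X ↘ Spec (CommRingCat.of F)) f φ)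
    (M : Y.Modules) (hM : Coh.IsQCoh M) (i : ℕ) :
    PerfAux.betti f M (φ (IsLocalRing.closedPoint F)) i =
      Module.finrank F (Coh.HH X ((Scheme.Modules.pullback g).obj M) i) := by
  let s : S := φ (IsLocalRing.closedPoint F)
  let K := S.residueField s
  let ψ : S.residueField s ⟶ CommRingCat.of F := Scheme.descResidueField (Scheme.stalkClosedPointTo φ)
  have hψ : Spec.map ψ ≫ S.fromSpecResidueField s = φ :=
    Scheme.descResidueField_stalkClosedPointTo_fromSpecResidueField F S φ
  let _ : Algebra K F := ψ.hom.toAlgebra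
  let _ : (f.fiber s).Over (Spec (CommRingCat.of K)) := ⟨f.fiberToSpecResidueField s⟩
  have hqc : QuasiCompact ((f.fiber s) ↘ Spec (CommRingCat.of K)) :=
    inferInstanceAs (QuasiCompact (pullback.snd f (S.fromSpecResidueField s)))
  have hqs : QuasiSeparated ((f.fiber s) ↘ Spec (CommRingCat.of K)) :=
    inferInstanceAs (QuasiSeparated (pullback.snd f (S.fromSpecResidueField s)))
  have : CompactSpace (f.fiber s) :=
    (quasiCompact_iff_compactSpace (f := (f.fiber s) ↘ Spec (CommRingCat.of K))).mp inferInstance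
  have : QuasiSeparatedSpace (f.fiber s) :=
    (quasiSeparated_iff_quasiSeparatedSpace (f := (f.fiber s) ↘ Spec (CommRingCat.of K))).mp
      inferInstance
  have h1 : IsPullback (f.fiberι s) ((f.fiber s) ↘ Spec (CommRingCat.of K)) f
      (S.fromSpecResidueField s) := IsPullback.of_hasPullback _ _
  have h2 : g ≫ f = ((X ↘ Spec (CommRingCat.of F)) ≫ Spec.map ψ) ≫ S.fromSpecResidueField s := by
    rw [Category.assoc, hψ, hpb.w]
  have hpb' : IsPullback (h1.lift g _ h2) (X ↘ Spec (CommRingCat.of F))
      ((f.fiber s) ↘ Spec (CommRingCat.of K)) (Spec.map ψ) := by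
    refine IsPullback.of_right ?_ (h1.lift_snd _ _ _) h1
    rw [h1.lift_fst, hψ]
    exact hpb
  have hq : Coh.IsQCoh ((Scheme.Modules.pullback (f.fiberι s)).obj M) :=
    VarietyB.PullSec.isQCoh_pullback _ M hM
  obtain ⟨e₁⟩ := Groth.Agent.S0034.result K F (f.fiber s) X (h1.lift g _ h2) hpb'
    ((Scheme.Modules.pullback (f.fiberι s)).obj M) i
  let e₂ : (Scheme.Modules.pullback (h1.lift g _ h2)).obj
      ((Scheme.Modules.pullback (f.fiberι s)).obj M) ≅ (Scheme.Modules.pullback g).obj M :=
    (Scheme.Modules.pullbackComp (h1.lift g _ h2) (f.fiberι s)).app M ≪≫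
      (Scheme.Modules.pullbackCongr (h1.lift_fst _ _ _)).app M
  have h3 := (e₁.trans (PerfB.FiberBC.isoOver F e₂ i)).finrank_eq
  rw [Module.finrank_baseChange] at h3
  exact h3

section Slice

variable (k : Type u) [Field k] (X : Scheme.{u}) [X.Over (Spec (CommRingCat.of k))]

/-- The slice is a fibre of the projection. -/
theorem isPullback_sliceAt {T : Scheme.{u}} (q : T ⟶ Spec (CommRingCat.of k))
    (t : Spec (CommRingCat.of k) ⟶ T) (ht : t ≫ q = 𝟙 _) :
    IsPullback (Pic13.sliceAt k X q t ht) (X ↘ Spec (CommRingCat.of k)) (pullback.snd _ _) t := by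
  refine IsPullback.of_right (h₁₂ := pullback.fst (X ↘ Spec (CommRingCat.of k)) q)
    (v₁₃ := X ↘ Spec (CommRingCat.of k)) (h₂₂ := q) ?_
    (H138.Slice.sliceAt_snd k X q t ht) ?_
  · rw [H138.Slice.sliceAt_fst, ht]
    exact IsPullback.of_horiz_isIso ⟨by simp⟩
  · exact IsPullback.of_hasPullback _ _

theorem betti_slice [QuasiCompact (X ↘ Spec (CommRingCat.of k))]
    [QuasiSeparated (X ↘ Spec (CommRingCat.of k))] {T : Scheme.{u}}
    (q : T ⟶ Spec (CommRingCat.of k)) (t : Spec (CommRingCat.of k) ⟶ T) (ht : t ≫ q = 𝟙 _)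
    (M : (Pic13.prodK k X q).Modules) (hM : Coh.IsQCoh M) (i : ℕ) :
    PerfAux.betti (pullback.snd (X ↘ Spec (CommRingCat.of k)) q) M (t (IsLocalRing.closedPoint k)) i =
      Module.finrank k (Coh.HH X (Pic13.fibreMod k X q t ht M) i) := by
  have : QuasiCompact (pullback.snd (X ↘ Spec (CommRingCat.of k)) q) := inferInstance
  have : QuasiSeparated (pullback.snd (X ↘ Spec (CommRingCat.of k)) q) := inferInstance
  exact betti_eq_finrank (pullback.snd (X ↘ Spec (CommRingCat.of k)) q) k t X
    (Pic13.sliceAt k X q t ht) (isPullback_sliceAt k X q t ht) M hM i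

/-- `h^i` of the members of a flat finitely presented family over a quasi-compact base is bounded. -/
theorem exists_bound_finrank [IsProper (X ↘ Spec (CommRingCat.of k))] {T : Scheme.{u}}
    (q : T ⟶ Spec (CommRingCat.of k)) [QuasiCompact q]
    (M : (Pic13.prodK k X q).Modules) (hM : CohB1.IsFP M)
    (hflat : FlatMod.IsFlatOver (pullback.snd (X ↘ Spec (CommRingCat.of k)) q) M) (i : ℕ) :
    ∃ B : ℕ, ∀ (t : Spec (CommRingCat.of k) ⟶ T) (ht : t ≫ q = 𝟙 _),
      Module.finrank k (Coh.HH X (Pic13.fibreMod k X q t ht M) i) ≤ B := by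
  let f := pullback.snd (X ↘ Spec (CommRingCat.of k)) q
  have : IsProper f := inferInstance
  have : LocallyOfFinitePresentation (X ↘ Spec (CommRingCat.of k)) := inferInstance
  have : LocallyOfFinitePresentation f := inferInstance
  have hT : CompactSpace T := (quasiCompact_iff_compactSpace (f := q)).mp inferInstance
  have hopen := PerfB.Semi.isOpen_betti f M hM hflat i
  have hcov : ∃ B : ℕ, ∀ s : T, PerfAux.betti f M s i < B := by
    have hd : Directed (· ⊆ ·) fun n : ℕ => {s : T | PerfAux.betti f M s i < n} :=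
      directed_of_isDirected_le fun a b hab s hs => lt_of_lt_of_le hs hab
    obtain ⟨B, hB⟩ := isCompact_univ.elim_directed_cover
      (fun n : ℕ => {s : T | PerfAux.betti f M s i < n}) hopen
      (fun s _ => Set.mem_iUnion.2 ⟨PerfAux.betti f M s i + 1, Nat.lt_succ_self _⟩) hd
    exact ⟨B, fun s => hB (Set.mem_univ s)⟩
  obtain ⟨B, hB⟩ := hcov
  refine ⟨B, fun t ht => ?_⟩
  rw [← betti_slice k X q t ht M (Models2.FPCoh.isQCoh_of_isFP hM) i]
  exact (hB _).le

end Slice

end Groth.Agent.Pic13.H969.BettiFam
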