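import Groth.Agent.Grpsch.PicGrp
import Groth.Agent.Fga.EulerIso
import Mathlib.Data.Finset.Sort
import Mathlib.Algebra.BigOperators.Group.List.Basic

/-!
# `FGA.intNum` of invertible modules as a function on the Picard group

* `chiCl k X d : Pic X → ℤ` : `FGA.eulerCharLE` on classes.
* `intNum_eq` : `FGA.intNum` with coefficients `O_X` in terms of classes.
* `isInvertible_of_tensor_iso`, `mk_inverse` : inverses.
-/

set_option autoImplicit false
universe u
open CategoryTheory CategoryTheory.Limits AlgebraicGeometry TopologicalSpace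

namespace Groth.Agent.Pic13.H969.ChiCl

open Groth.Agent.Grpsch.PicGrp Groth.Agent.Fdesc.LocGen

section Cl

variable (k : Type u) [Field k] (X : Scheme.{u}) [X.Over (Spec (CommRingCat.of k))] (d : ℕ)

/-- The Euler characteristic (degrees `≤ d`) of a class of invertible modules. -/
noncomputable def chiCl : Pic X → ℤ :=
  Quotient.lift (fun L => FGA.eulerCharLE k X L.1 d)
    (fun _ _ ⟨e⟩ => Fga.EulerIso.eulerCharLE_congr k e d)

theorem chiCl_mk {L : X.Modules} (hL : PicF.IsInvertible L) :
    chiCl k X d (mk L hL) = FGA.eulerCharLE k X L d := rfl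

variable {X}

theorem isInvertible_tensorList (l : List X.Modules) (hl : ∀ M ∈ l, PicF.IsInvertible M) :
    PicF.IsInvertible (FGA.tensorList l) := by
  induction l with
  | nil => exact isInvertible_structureModule
  | cons M l ih =>
    exact isInvertible_tensorMod (hl M (by simp)) (ih fun N hN => hl N (by simp [hN]))

theorem mk_tensorList {ι : Type} (M : ι → X.Modules) (hM : ∀ i, PicF.IsInvertible (M i)) (l : List ι)
    (h : PicF.IsInvertible (FGA.tensorList (l.map M))) :
    mk (FGA.tensorList (l.map M)) h = (l.map fun i => mk (M i) (hM i)).prod := by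
  induction l with
  | nil => rfl
  | cons i l ih =>
    have hl : PicF.IsInvertible (FGA.tensorList (l.map M)) :=
      isInvertible_tensorList _ fun N hN => by
        obtain ⟨j, -, rfl⟩ := List.mem_map.1 hN
        exact hM j
    have h2 : ((i :: l).map fun i => mk (M i) (hM i)).prod =
        mk (M i) (hM i) * mk (FGA.tensorList (l.map M)) hl := by
      rw [List.map_cons, List.prod_cons, ih hl]
    rw [h2]
    rfl

/-- `FGA.intNum` with coefficients in the structure sheaf, in terms of classes. -/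
theorem intNum_eq {r : ℕ} (M : Fin r → X.Modules) (hM : ∀ i, PicF.IsInvertible (M i)) :
    FGA.intNum k X d M (Coh.structureModule X) =
      (Finset.univ : Finset (Finset (Fin r))).sum fun I =>
        (-1 : ℤ) ^ I.card * chiCl k X d (∏ i ∈ I, mk (M i) (hM i)) := by
  unfold FGA.intNum
  refine Finset.sum_congr rfl fun I _ => ?_
  have h1 : PicF.IsInvertible (FGA.tensorList ((I.sort (· ≤ ·)).map M)) :=
    isInvertible_tensorList _ fun N hN => by
      obtain ⟨j, -, rfl⟩ := List.mem_map.1 hN
      exact hM j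
  have h2 : mk (CohB1.tensorMod (FGA.tensorList ((I.sort (· ≤ ·)).map M))
      (Coh.structureModule X)) (isInvertible_tensorMod h1 isInvertible_structureModule) =
        ∏ i ∈ I, mk (M i) (hM i) := by
    rw [← mk_mul_mk h1 isInvertible_structureModule, ← one_def, mul_one, mk_tensorList M hM,
      ← Finset.prod_map_toList]
    exact ((Finset.sort_perm_toList I (· ≤ ·)).map _).prod_eq
  rw [← h2]
  rfl

end Cl

/-- The inverse of an invertible module is invertible. -/
theorem isInvertible_of_tensor_iso {X : Scheme.{u}} {L L' : X.Modules} (hL : PicF.IsInvertible L)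
    (h : Nonempty (CohB1.tensorMod L L' ≅ Coh.structureModule X)) : PicF.IsInvertible L' := by
  obtain ⟨M, hM, ⟨e⟩⟩ := exists_inverse hL
  obtain ⟨e'⟩ := h
  -- L' ≅ O ⊗ L' ≅ (L ⊗ M) ⊗ L' ≅ (M ⊗ L) ⊗ L' ≅ M ⊗ (L ⊗ L') ≅ M ⊗ O ≅ M
  have e'' : L' ≅ M := (Ega2.Tens.lunit L').symm ≪≫
    Ega2.Tens.mapTIso (e.symm ≪≫ Ega2.Tens.swap L M) (Iso.refl L') ≪≫ Ega2.Tens.assoc M L L' ≪≫
      Ega2.Tens.mapTIso (Iso.refl M) e' ≪≫ Ega2.Tens.runit M
  rw [isInvertible_iff] at hM ⊢
  intro x
  obtain ⟨U, s, hx, hs⟩ := hM x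
  exact ⟨U, e''.inv.app U s, hx, hs.app e''.inv⟩

theorem mk_inverse {X : Scheme.{u}} {L L' : X.Modules} (hL : PicF.IsInvertible L)
    (hL' : PicF.IsInvertible L') (h : Nonempty (CohB1.tensorMod L L' ≅ Coh.structureModule X)) :
    mk L' hL' = (mk L hL)⁻¹ := by
  rw [eq_inv_iff_mul_eq_one, mul_comm, mk_mul_mk hL hL']
  exact (mk_eq_one_iff _).2 h

end Groth.Agent.Pic13.H969.ChiCl
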