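import Groth.Agent.Pic13.H969.BettiFam
import Groth.Agent.Pic13.H969.ChiCl

/-!
# Boundedness of `FGA.intNum` on the members of an invertible family

* `exists_bound_chiCl`, `exists_bound_intNum`.
-/

set_option autoImplicit false
universe u
open CategoryTheory CategoryTheory.Limits AlgebraicGeometry TopologicalSpace

namespace Groth.Agent.Pic13.H969.IntBound

open Groth.Agent.Grpsch.PicGrp Groth.Agent.Pic13.H138.Slice Groth.Agent.Fdesc.LocGen
  Groth.Agent.Pic13.H969.ChiCl

section Family

variable (k : Type u) [Field k] (X : Scheme.{u}) [X.Over (Spec (CommRingCat.of k))]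
  [IsProper (X ↘ Spec (CommRingCat.of k))]

/-- `|χ|` (in degrees `≤ d`) is bounded on the members of an invertible family. -/
theorem exists_bound_chiCl {T : Scheme.{u}} (q : T ⟶ Spec (CommRingCat.of k)) [QuasiCompact q]
    (c : Pic (Pic13.prodK k X q)) (d : ℕ) :
    ∃ B : ℤ, ∀ (t : Spec (CommRingCat.of k) ⟶ T) (ht : t ≫ q = 𝟙 _),
      |chiCl k X d (fibCl k X q t ht c)| ≤ B := by
  obtain ⟨M, hM, rfl⟩ := exists_mk c
  have hfp := Ega3B.ChiFib.isFP_of_isInvertible hM
  have : Flat (X ↘ Spec (CommRingCat.of k)) := inferInstance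
  have : Flat (pullback.snd (X ↘ Spec (CommRingCat.of k)) q) := inferInstance
  have hfl := Ega3B.ChiFib.isFlatOver_of_isInvertible
    (pullback.snd (X ↘ Spec (CommRingCat.of k)) q) hM
  choose B hB using fun i : ℕ => BettiFam.exists_bound_finrank k X q M hfp hfl i
  refine ⟨(Finset.range (d + 1)).sum fun i => (B i : ℤ), fun t ht => ?_⟩
  have h1 : chiCl k X d (fibCl k X q t ht (mk M hM)) =
      (Finset.range (d + 1)).sum fun i =>
        (-1 : ℤ) ^ i * (Module.finrank k (Coh.HH X (Pic13.fibreMod k X q t ht M) i) : ℤ) := rfl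
  rw [h1]
  refine (Finset.abs_sum_le_sum_abs _ _).trans (Finset.sum_le_sum fun i _ => ?_)
  rw [abs_mul, abs_pow, abs_neg, abs_one, one_pow, one_mul, Nat.abs_cast]
  exact_mod_cast hB i t ht

/-- Intersection numbers are bounded on the members of a family of `r`-tuples of invertible modules. -/
theorem exists_bound_intNum {T : Scheme.{u}} (q : T ⟶ Spec (CommRingCat.of k)) [QuasiCompact q]
    {r : ℕ} (C : Fin r → Pic (Pic13.prodK k X q)) (d : ℕ) :
    ∃ B : ℤ, ∀ (t : Spec (CommRingCat.of k) ⟶ T) (ht : t ≫ q = 𝟙 _) (M : Fin r → X.Modules)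
      (hM : ∀ i, PicF.IsInvertible (M i)), (∀ i, mk (M i) (hM i) = fibCl k X q t ht (C i)) →
        |FGA.intNum k X d M (Coh.structureModule X)| ≤ B := by
  choose B hB using fun I : Finset (Fin r) => exists_bound_chiCl k X q (∏ i ∈ I, C i) d
  refine ⟨(Finset.univ : Finset (Finset (Fin r))).sum B, fun t ht M hM h => ?_⟩
  rw [intNum_eq k d M hM]
  refine (Finset.abs_sum_le_sum_abs _ _).trans (Finset.sum_le_sum fun I _ => ?_)
  rw [abs_mul, abs_pow, abs_neg, abs_one, one_pow, one_mul]
  have h1 : ∏ i ∈ I, mk (M i) (hM i) = fibCl k X q t ht (∏ i ∈ I, C i) := by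
    rw [map_prod]
    exact Finset.prod_congr rfl fun i _ => h i
  rw [h1]
  exact hB I t ht

end Family

end Groth.Agent.Pic13.H969.IntBound
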