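import Groth.Agent.Pic13.H969.AlgFree
import Groth.Agent.Dcoh.PerfFlat
import Groth.Agent.Divis.StalkMod
import Groth.Agent.Flat2D.PbStalk
import Groth.Agent.Fdesc.PullbackStalk
import Groth.Agent.Fdesc.LocGenPullback
import Groth.Agent.Ega1.StalkFP
import Groth.Agent.CycB.ModStalk
import Groth.Agent.Ega2.QCohLocal

/-!
# A flat coherent module which is invertible on the fibre is invertible near the fibre

* `exists_isGen_of_free_stalk` : a coherent module whose stalk at `x` is free of rank one has a generator near `x`.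
* `exists_isGen_of_fibre` : `G` coherent, flat over `S` at `i z`, with invertible restriction to the fibre
  `i : F ⟶ Y` of `f : Y ⟶ S`; then `G` has a generator near `i z`.
-/

set_option autoImplicit false
universe u
open CategoryTheory CategoryTheory.Limits AlgebraicGeometry TopologicalSpace TensorProduct

namespace Groth.Agent.Pic13.H969.StalkFree

open Groth.Agent.Fdesc.LocGen

section Rank

open Groth.Agent.Dcoh Groth.Agent.Dcoh.PerfFlat Groth.Agent.Dcoh.LocalD
  Groth.Agent.Dcoh.StalkMod Groth.Agent.CycB.StalkExact Groth.Agent.Dcoh.StalkRestrict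
  Groth.Agent.Dcoh.FreeSec

/-- The stalk of a module free of rank `n` near `x` has a basis with `n` elements. -/
theorem nonempty_basis_stalk {X : Scheme.{u}} {M : X.Modules} {U : X.Opens} {n : ℕ}
    (a : M.restrict U.ι ≅ FlatMod.freeMod (U : Scheme.{u}) n) (x : X) (hx : x ∈ U) :
    Nonempty (Module.Basis (Fin n) (X.presheaf.stalk x) (M.presheaf.stalk x)) := by
  let b : Module.Basis (Fin n) ((U : Scheme.{u}).presheaf.stalk (pt U hx))
      ((M.restrict U.ι).presheaf.stalk (pt U hx)) :=
    Module.Basis.ofEquivFun ((stalkLinEquiv a (pt U hx)).trans (stalkFree n (pt U hx)).symm)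
  exact ⟨basisOfSemilinear (σo U hx).symm (ρo U hx M) (ρo_smul' U hx M) b⟩

end Rank

/-- A local isomorphism with the structure sheaf gives a local generator. -/
theorem exists_isGen_of_restrict_iso {X : Scheme.{u}} {M : X.Modules} {U : X.Opens} {x : X}
    (hx : x ∈ U) (e : M.restrict U.ι ≅ Coh.structureModule (U : Scheme.{u})) :
    ∃ (V : X.Opens) (s : Γ(M, V)), x ∈ V ∧ IsGen s := by
  have h1 : IsGen (sec e.inv ⊤) := (isIso_iff_isGen e.inv).mp inferInstance
  obtain ⟨m, hm⟩ := (toRestrict (M := M) U.ι (U := ⊤)).surjective (sec e.inv ⊤)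
  rw [← hm, isGen_toRestrict_iff] at h1
  exact ⟨_, m, by simpa using hx, h1⟩

/-- A coherent module whose stalk at `x` is free of rank one has a generator near `x`. -/
theorem exists_isGen_of_free_stalk {X : Scheme.{u}} [IsLocallyNoetherian X] {M : X.Modules}
    (hM : Coh.IsCoh M) (x : X) (h : Module.Free (X.presheaf.stalk x) (M.presheaf.stalk x))
    (h1 : Module.finrank (X.presheaf.stalk x) (M.presheaf.stalk x) = 1) :
    ∃ (V : X.Opens) (s : Γ(M, V)), x ∈ V ∧ IsGen s := by
  obtain ⟨V, n, hx, ⟨e⟩⟩ := Divis.StalkMod.exists_free_nhd hM x h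
  obtain ⟨b⟩ := nonempty_basis_stalk e x hx
  have hn := Module.finrank_eq_card_basis b
  rw [h1, Fintype.card_fin] at hn
  subst hn
  exact exists_isGen_of_restrict_iso hx (e ≪≫ coproductUniqueIso
    (fun _ : Fin 1 => Coh.structureModule (V : Scheme.{u})))

/-- The stalks of an invertible module are free of rank one. -/
theorem free_stalk_of_isInvertible {X : Scheme.{u}} {L : X.Modules} (hL : PicF.IsInvertible L)
    (x : X) : Module.Free (X.presheaf.stalk x) (L.presheaf.stalk x) ∧
      Module.finrank (X.presheaf.stalk x) (L.presheaf.stalk x) = 1 := by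
  obtain ⟨t, ht⟩ := CycB.ModStalk.exists_isGen hL x
  let e : X.presheaf.stalk x ≃ₗ[X.presheaf.stalk x] L.presheaf.stalk x :=
    LinearEquiv.ofBijective (LinearMap.toSpanSingleton _ _ t) ht
  exact ⟨Module.Free.of_equiv e, by rw [← e.finrank_eq]; exact Module.finrank_self _⟩

/-- On a locally Noetherian scheme coherent modules are of finite presentation. -/
theorem isFP_of_isCoh {X : Scheme.{u}} [IsLocallyNoetherian X] {M : X.Modules}
    (hM : Coh.IsCoh M) : CohB1.IsFP M := by
  refine (CohqA.FinLocal.isFP_iff M).mpr fun x => ?_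
  obtain ⟨U, hU, hx⟩ := Divis.StalkMod.exists_affine x
  refine ⟨U, hx, (CohqA.AffSec.gfp_iff hU hM.1).mpr ?_⟩
  have hNoeth : IsNoetherianRing Γ(X, U) := IsLocallyNoetherian.component_noetherian ⟨U, hU⟩
  have hfin := Divis.StalkMod.finite_sections hM hU
  exact Module.finitePresentation_of_finite Γ(X, U) Γ(M, U)

/-- A coherent module, flat over the base at a point of the fibre, with invertible restriction to the
fibre, has a generator near the point. -/
theorem exists_isGen_of_fibre {Y S F : Scheme.{u}} [IsLocallyNoetherian Y] (f : Y ⟶ S)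
    {s : S} {i : F ⟶ Y} {p : F ⟶ Spec (S.residueField s)}
    (H : IsPullback i p f (S.fromSpecResidueField s)) (G : Y.Modules) (hG : Coh.IsCoh G) (z : F)
    (hflat : FlatMod.IsFlatOverAt f G (i z))
    (hinv : PicF.IsInvertible ((Scheme.Modules.pullback i).obj G)) :
    ∃ (V : Y.Opens) (e : Γ(G, V)), i z ∈ V ∧ IsGen e := by
  have hi : IsPreimmersion i := Flat2D.PbStalk.isPreimmersion_of_isPullback f H
  let _ : Algebra (S.presheaf.stalk (f (i z))) (Y.presheaf.stalk (i z)) :=
    (f.stalkMap (i z)).hom.toAlgebra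
  let _ : Module (S.presheaf.stalk (f (i z))) (G.presheaf.stalk (i z)) :=
    FlatMod.moduleStalkOver f G (i z)
  have : IsScalarTower (S.presheaf.stalk (f (i z))) (Y.presheaf.stalk (i z))
      (G.presheaf.stalk (i z)) :=
    ⟨fun a b m => by rw [Algebra.smul_def, mul_smul]; rfl⟩
  let _ : Algebra (Y.presheaf.stalk (i z)) (F.presheaf.stalk z) := (i.stalkMap z).hom.toAlgebra
  have : IsNoetherianRing (Y.presheaf.stalk (i z)) := inferInstance
  have hfin : Module.Finite (Y.presheaf.stalk (i z)) (G.presheaf.stalk (i z)) :=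
    Divis.StalkMod.finite_stalk hG (i z)
  have hfp : Module.FinitePresentation (Y.presheaf.stalk (i z)) (G.presheaf.stalk (i z)) :=
    Module.finitePresentation_of_finite _ _
  have hfl : Module.Flat (S.presheaf.stalk (f (i z))) (G.presheaf.stalk (i z)) := hflat
  have hloc : IsLocalHom (f.stalkMap (i z)).hom := inferInstance
  have hJ : (IsLocalRing.maximalIdeal (S.presheaf.stalk (f (i z)))).map
      (algebraMap (S.presheaf.stalk (f (i z))) (Y.presheaf.stalk (i z))) ≤
        IsLocalRing.maximalIdeal (Y.presheaf.stalk (i z)) :=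
    ((IsLocalRing.local_hom_TFAE (f.stalkMap (i z)).hom).out 0 2).mp hloc
  let e := Fdesc.PullbackStalk.stalkPullbackEquiv i G z
  obtain ⟨h1, h2⟩ := free_stalk_of_isInvertible hinv z
  have h3 : Module.Free (F.presheaf.stalk z)
      (F.presheaf.stalk z ⊗[Y.presheaf.stalk (i z)] G.presheaf.stalk (i z)) :=
    Module.Free.of_equiv e.symm
  have hfree : Module.Free (Y.presheaf.stalk (i z)) (G.presheaf.stalk (i z)) :=
    AlgFree.free_of_free_baseChange (B := F.presheaf.stalk z)
      (IsLocalRing.maximalIdeal (S.presheaf.stalk (f (i z)))) hJ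
      (i.stalkMap_surjective z) (Flat2D.PbStalk.ker_stalkMap_of_isPullback f H z) h3
  refine exists_isGen_of_free_stalk hG (i z) hfree ?_
  rw [← h2, ← e.finrank_eq, Module.finrank_baseChange]

end Groth.Agent.Pic13.H969.StalkFree
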